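import Groth.Prelude.Def_Cyc
import Mathlib.RingTheory.KrullDimension.NonZeroDivisors
import Mathlib.AlgebraicGeometry.Stalk

/-!
# Dimension functions and dimensions of local rings of closures of points
-/

set_option autoImplicit false

universe u

open AlgebraicGeometry CategoryTheory IsLocalRing

namespace Groth.Agent.CycLib

variable {X : Scheme.{u}}

/-- The prime of `O_{X,x}` of a generization `ξ` of `x`. -/
noncomputable def specPrime {x ξ : X} (h : ξ ⤳ x) : PrimeSpectrum (X.presheaf.stalk x) :=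
  ⟨RingHom.ker (Cyc.specMap x ξ h), RingHom.ker_isPrime _⟩

theorem fromSpecStalk_specPrime {x ξ : X} (h : ξ ⤳ x) : X.fromSpecStalk x (specPrime h) = ξ := by
  have e : specPrime h = Spec.map (X.presheaf.stalkSpecializes h) (closedPoint (X.presheaf.stalk ξ)) := by
    refine PrimeSpectrum.ext ?_
    show RingHom.ker ((X.residue ξ).hom.comp (X.presheaf.stalkSpecializes h).hom) = _
    rw [← RingHom.comap_ker]
    exact congrArg (Ideal.comap _) Ideal.mk_ker
  rw [e, ← Scheme.Hom.comp_apply, Scheme.SpecMap_stalkSpecializes_fromSpecStalk h,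
    Scheme.fromSpecStalk_closedPoint]

theorem specializes_iff_le {x : X} (a b : PrimeSpectrum (X.presheaf.stalk x)) :
    X.fromSpecStalk x a ⤳ X.fromSpecStalk x b ↔ a ≤ b := by
  exact (X.fromSpecStalk x).isEmbedding.isInducing.specializes_iff.trans (PrimeSpectrum.le_iff_specializes a b).symm

theorem fromSpecStalk_specializes {x : X} (a : PrimeSpectrum (X.presheaf.stalk x)) :
    X.fromSpecStalk x a ⤳ x := by
  have : X.fromSpecStalk x a ∈ Set.range (X.fromSpecStalk x) := ⟨a, rfl⟩
  rwa [Scheme.range_fromSpecStalk] at this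

theorem delta_le {δ : X → ℤ} (hδ : Cyc.IsDimFun X δ) {x y : X} (h : x ⤳ y) : δ y ≤ δ x := by
  by_cases e : x = y
  · rw [e]
  · exact (hδ x y h e).1.le

/-- Immediate specializations exist. -/
theorem exists_immediate {δ : X → ℤ} (hδ : Cyc.IsDimFun X δ) {x ξ : X} (h : ξ ⤳ x) (hne : ξ ≠ x) :
    ∃ z : X, ξ ⤳ z ∧ z ⤳ x ∧ ξ ≠ z ∧ δ ξ = δ z + 1 := by
  obtain ⟨m, ⟨z, hz1, hz2, hz3, rfl⟩, hmax⟩ := Int.exists_greatest_of_bdd
    (P := fun m => ∃ z : X, ξ ⤳ z ∧ z ⤳ x ∧ ξ ≠ z ∧ δ z = m)
    ⟨δ ξ, fun m ⟨z, hz1, _, _, hzm⟩ => hzm ▸ delta_le hδ hz1⟩ ⟨δ x, x, h, specializes_rfl, hne, rfl⟩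
  refine ⟨z, hz1, hz2, hz3, (hδ ξ z hz1 hz3).2 fun w hw1 hw2 => ?_⟩
  by_contra hw
  push Not at hw
  have := hmax _ ⟨w, hw1, hw2.trans hz2, fun e => hw.1 e.symm, rfl⟩
  exact absurd this (not_le.2 (hδ w z hw2 hw.2).1)

theorem exists_series {δ : X → ℤ} (hδ : Cyc.IsDimFun X δ) {x : X} (n : ℕ) :
    ∀ (ξ : X) (h : ξ ⤳ x), δ ξ = δ x + n →
      ∃ s : LTSeries (PrimeSpectrum (X.presheaf.stalk x)), s.length = n ∧ s.head = specPrime h := by
  induction n with
  | zero => exact fun ξ h _ => ⟨RelSeries.singleton _ (specPrime h), rfl, rfl⟩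
  | succ n ih =>
    intro ξ h he
    have hne : ξ ≠ x := fun e => by rw [e] at he; omega
    obtain ⟨z, hz1, hz2, hz3, hz4⟩ := exists_immediate hδ h hne
    obtain ⟨s, hs, hs'⟩ := ih z hz2 (by omega)
    refine ⟨s.cons (specPrime h) ?_, by rw [RelSeries.cons_length, hs], RelSeries.head_cons ..⟩
    show specPrime h < s.head
    rw [hs']
    refine lt_of_le_of_ne ((specializes_iff_le _ _).1 ?_) fun e => hz3 ?_
    · rw [fromSpecStalk_specPrime, fromSpecStalk_specPrime]; exact hz1
    · rw [← fromSpecStalk_specPrime h, e, fromSpecStalk_specPrime]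

/-- `dim O_{X,x} / p_ξ = δ ξ - δ x`. -/
theorem ringKrullDim_locQuot {δ : X → ℤ} (hδ : Cyc.IsDimFun X δ) {x ξ : X} (h : ξ ⤳ x) :
    ringKrullDim (Cyc.LocQuot x ξ h) = ((δ ξ - δ x).toNat : WithBot ℕ∞) := by
  have hle := delta_le hδ h
  show ringKrullDim (X.presheaf.stalk x ⧸ RingHom.ker (Cyc.specMap x ξ h)) = _
  rw [ringKrullDim_quotient]
  refine le_antisymm ?_ ?_
  · refine iSup_le fun s => ?_
    have key : ∀ i : Fin (s.length + 1), δ (X.fromSpecStalk x (s i).1) + (i : ℕ) ≤ δ ξ := by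
      intro i
      induction i using Fin.induction with
      | zero =>
        simp only [Fin.val_zero, Nat.cast_zero, add_zero]
        refine delta_le hδ ?_
        have hz := (specializes_iff_le (specPrime h) (s 0).1).2 (s 0).2
        rwa [fromSpecStalk_specPrime h] at hz
      | succ i ih =>
        have hlt : (s i.castSucc).1 < (s i.succ).1 := s.step i
        have hne : X.fromSpecStalk x (s i.castSucc).1 ≠ X.fromSpecStalk x (s i.succ).1 :=
          fun e => hlt.ne ((X.fromSpecStalk x).isEmbedding.injective e)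
        have := (hδ _ _ ((specializes_iff_le _ _).2 hlt.le) hne).1
        simp only [Fin.val_succ, Fin.val_castSucc] at ih ⊢
        push_cast
        omega
    have h1 := key (Fin.last s.length)
    have h2 := delta_le hδ (fromSpecStalk_specializes (s (Fin.last s.length)).1)
    rw [Fin.val_last] at h1
    exact_mod_cast (show s.length ≤ (δ ξ - δ x).toNat by omega)
  · obtain ⟨s, hs, hs'⟩ := exists_series hδ (δ ξ - δ x).toNat ξ h (by omega)
    let t : LTSeries (PrimeSpectrum.zeroLocus (RingHom.ker (Cyc.specMap x ξ h) : Set (X.presheaf.stalk x))) :=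
      { length := s.length
        toFun := fun i => ⟨s i, show (specPrime h).asIdeal ≤ (s i).asIdeal from hs' ▸ s.head_le i⟩
        step := fun i => s.step i }
    exact le_trans (by rw [← hs]) (Order.LTSeries.length_le_krullDim t)

end Groth.Agent.CycLib
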