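import Groth.Agent.CycLib.DimFun
import Groth.Agent.VarLib.Noetherian
import Mathlib.RingTheory.OrderOfVanishing.Noetherian

/-!
# Divisors of rational functions on closures of points
-/

set_option autoImplicit false
set_option linter.style.haveILetI false

universe u v

open AlgebraicGeometry CategoryTheory IsLocalRing TopologicalSpace

namespace Groth.Agent.CycLib

theorem length_self_eq_of_ringEquiv {R S : Type u} [CommRing R] [CommRing S] (e : R ≃+* S) :
    Module.length R R = Module.length S S := by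
  apply WithBot.coe_injective
  rw [Module.coe_length, Module.coe_length]
  exact (Order.krullDim_eq_of_orderIso e.idealComapOrderIso).symm

theorem isFractionRing_congr {R R' K K' : Type u} [CommRing R] [CommRing R'] [Field K] [Field K'] [Algebra R K]
    [Algebra R' K'] (e : R ≃+* R') (φ : K ≃+* K') (h : ∀ a, φ (algebraMap R K a) = algebraMap R' K' (e a))
    [IsFractionRing R K] : IsFractionRing R' K' := by
  have hm : ∀ y ∈ nonZeroDivisors R', e.symm y ∈ nonZeroDivisors R := fun y hy =>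
    (MulEquivClass.map_nonZeroDivisors e.symm).le ⟨y, hy, rfl⟩
  have hm' : ∀ y ∈ nonZeroDivisors R, e y ∈ nonZeroDivisors R' := fun y hy =>
    (MulEquivClass.map_nonZeroDivisors e).le ⟨y, hy, rfl⟩
  refine (isLocalization_iff _ _).2 ⟨fun y => ?_, fun z => ?_, fun {x y} hxy => ?_⟩
  · rw [← e.apply_symm_apply (y : R'), ← h]
    exact (IsLocalization.map_units (M := nonZeroDivisors R) K ⟨_, hm _ y.2⟩).map φ
  · obtain ⟨⟨a, b⟩, hab⟩ := IsLocalization.surj (nonZeroDivisors R) (φ.symm z)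
    exact ⟨⟨e a, ⟨e b, hm' _ b.2⟩⟩, by rw [← h, ← h, ← hab, map_mul, φ.apply_symm_apply]⟩
  · rw [← e.apply_symm_apply x, ← e.apply_symm_apply y, ← h, ← h] at hxy
    exact ⟨1, by rw [e.symm.injective (IsFractionRing.injective R K (φ.injective hxy))]⟩

theorem ord_eq_of_ringEquiv {R S : Type u} [CommRing R] [CommRing S] (e : R ≃+* S) (x : R) :
    Ring.ord S (e x) = Ring.ord R x := by
  unfold Ring.ord
  rw [Module.length_eq_of_surjective (R := R ⧸ Ideal.span {x}) (S := R) (M := R ⧸ Ideal.span {x}) Ideal.Quotient.mk_surjective,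
    Module.length_eq_of_surjective (R := S ⧸ Ideal.span {e x}) (S := S) (M := S ⧸ Ideal.span {e x}) Ideal.Quotient.mk_surjective]
  refine (length_self_eq_of_ringEquiv (Ideal.quotientEquiv (Ideal.span {x}) (Ideal.span {e x}) e ?_)).symm
  rw [Ideal.map_span, Set.image_singleton]; rfl

/-- `ordFrac` is invariant under isomorphisms. -/
theorem ordFrac_congr {R R' K K' : Type u} [CommRing R] [CommRing R'] [Field K] [Field K'] [Algebra R K]
    [Algebra R' K'] (e : R ≃+* R') (φ : K ≃+* K') (h : ∀ a, φ (algebraMap R K a) = algebraMap R' K' (e a)) (f : K) :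
    CycAlg.ordFrac R' K' (φ f) = CycAlg.ordFrac R K f := by
  have hN : IsNoetherianRing R' ↔ IsNoetherianRing R :=
    ⟨fun h' => isNoetherianRing_of_ringEquiv R' e.symm, fun h' => isNoetherianRing_of_ringEquiv R e⟩
  have hK : Ring.KrullDimLE 1 R' ↔ Ring.KrullDimLE 1 R := by
    rw [Ring.krullDimLE_iff, Ring.krullDimLE_iff, ringKrullDim_eq_of_ringEquiv e]
  have hnt : Nontrivial R' ↔ Nontrivial R :=
    ⟨fun _ => e.toEquiv.nontrivial, fun _ => e.symm.toEquiv.nontrivial⟩
  have hF : IsFractionRing R' K' ↔ IsFractionRing R K :=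
    ⟨fun _ => isFractionRing_congr e.symm φ.symm fun a => φ.injective (by simp [h]),
      fun _ => isFractionRing_congr e φ h⟩
  classical
  unfold CycAlg.ordFrac
  by_cases hc : IsNoetherianRing R ∧ Ring.KrullDimLE 1 R ∧ Nontrivial R ∧ IsFractionRing R K
  · have hc' : IsNoetherianRing R' ∧ Ring.KrullDimLE 1 R' ∧ Nontrivial R' ∧ IsFractionRing R' K' :=
      ⟨hN.2 hc.1, hK.2 hc.2.1, hnt.2 hc.2.2.1, hF.2 hc.2.2.2⟩
    rw [dif_pos hc, dif_pos hc']
    haveI := hc.1; haveI := hc.2.1; haveI := hc.2.2.1; haveI := hc.2.2.2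
    haveI := hc'.1; haveI := hc'.2.1; haveI := hc'.2.2.1; haveI := hc'.2.2.2
    have hm : ∀ a : R, Ring.ordFrac R' (φ (algebraMap R K a)) = Ring.ordFrac R (algebraMap R K a) := by
      intro a
      rw [h]
      rcases eq_or_ne a 0 with rfl | ha
      · simp
      rw [Ring.ordFrac_eq_ord R ha, Ring.ordFrac_eq_ord R' ((map_ne_zero_iff e e.injective).2 ha)]
      show (if e a ∈ nonZeroDivisors R' then _ else _) = (if a ∈ nonZeroDivisors R then _ else _)
      rw [ord_eq_of_ringEquiv e a]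
      by_cases hz : a ∈ nonZeroDivisors R
      · rw [if_pos hz, if_pos ((MulEquivClass.map_nonZeroDivisors e).le ⟨a, hz, rfl⟩)]
      · rw [if_neg hz, if_neg fun h' => hz (by
          have := (MulEquivClass.map_nonZeroDivisors e.symm).le ⟨e a, h', rfl⟩
          simpa using this)]
    obtain ⟨a, b, hb, rfl⟩ := IsFractionRing.div_surjective (A := R) f
    rw [map_div₀, map_div₀, map_div₀, hm, hm]
  · rw [dif_neg hc, dif_neg fun hc' => hc ⟨hN.1 hc'.1, hK.1 hc'.2.1, hnt.1 hc'.2.2.1, hF.1 hc'.2.2.2⟩]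

theorem ordFrac_unit {R K : Type u} [CommRing R] [Field K] [Algebra R K] {v : R} (hv : IsUnit v) :
    CycAlg.ordFrac R K (algebraMap R K v) = 0 := by
  unfold CycAlg.ordFrac
  split_ifs with h
  · haveI := h.1; haveI := h.2.1; haveI := h.2.2.1; haveI := h.2.2.2
    haveI : IsDomain R := (IsFractionRing.injective R K).isDomain _
    rw [Ring.ordFrac_of_isUnit hv]
    rfl
  · rfl

variable {X : Scheme.{u}}

/-- The divisor of `f` is zero where `f` is a unit. -/
theorem exists_unit_nbhd (ξ : X) (f : X.residueField ξ) (hf : f ≠ 0) :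
    ∃ W : X.Opens, ξ ∈ W ∧ ∀ z ∈ W, ∀ h : ξ ⤳ z, Cyc.ordAt z ξ h f = 0 := by
  obtain ⟨s, rfl⟩ := X.residue_surjective ξ f
  have hs : IsUnit s := by
    by_contra h
    exact hf ((IsLocalRing.residue_eq_zero_iff s).2 ((IsLocalRing.mem_maximalIdeal s).2 h))
  obtain ⟨W, hW, t, rfl⟩ := X.presheaf.exists_germ_eq (x := ξ) s
  refine ⟨X.basicOpen t, (X.mem_basicOpen _ _ hW).2 hs, fun z hz h => ?_⟩
  obtain ⟨hzW, hu⟩ := (X.mem_basicOpen'' t _).1 hz
  have hu' : IsUnit (Ideal.Quotient.mk (RingHom.ker (Cyc.specMap z ξ h)) (X.presheaf.germ W z hzW t)) := hu.map _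
  have key : algebraMap (Cyc.LocQuot z ξ h) (X.residueField ξ) (Ideal.Quotient.mk _ (X.presheaf.germ W z hzW t)) =
      X.residue ξ (X.presheaf.germ W ξ hW t) := by
    show (X.presheaf.stalkSpecializes h ≫ X.residue ξ) (X.presheaf.germ W z hzW t) = _
    rw [← CommRingCat.comp_apply, TopCat.Presheaf.germ_stalkSpecializes_assoc]
    rfl
  rw [Cyc.ordAt, ← key]
  exact ordFrac_unit hu'

/-- Divisors of rational functions are locally finite. -/
theorem finite_divFun [IsLocallyNoetherian X] {δ : X → ℤ} (hδ : Cyc.IsDimFun X δ) (ξ : X)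
    (f : X.residueField ξ) {V : X.Opens} (hV : IsAffineOpen V) :
    ((V : Set X) ∩ {z | Cyc.divFun δ ξ f z ≠ 0}).Finite := by
  rcases eq_or_ne f 0 with rfl | hf
  · refine Set.finite_empty.subset fun z hz => ?_
    refine hz.2 ?_
    unfold Cyc.divFun
    split_ifs
    · unfold Cyc.ordAt CycAlg.ordFrac
      split_ifs <;> simp
    · rfl
  obtain ⟨W, hξW, hW⟩ := exists_unit_nbhd ξ f hf
  haveI : NoetherianSpace (V : Set X) := Groth.Agent.VarLib.noetherianSpace_of_isAffineOpen hV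
  let D : Set (V : Set X) := Subtype.val ⁻¹' (closure {ξ} \ (W : Set X))
  have hD : IsClosed D := (isClosed_closure.sdiff W.2).preimage continuous_subtype_val
  haveI : NoetherianSpace D := inferInstance
  have hspec : ∀ z, Cyc.divFun δ ξ f z ≠ 0 → ξ ⤳ z ∧ δ z + 1 = δ ξ ∧ z ∉ W := fun z hz => by
    unfold Cyc.divFun at hz
    split_ifs at hz with h
    · exact ⟨h.1, h.2, fun hzW => hz (hW z hzW h.1)⟩
    · exact absurd rfl hz
  obtain ⟨S, hSf, hSc, hSi, hSU⟩ := NoetherianSpace.exists_finite_set_isClosed_irreducible hD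
  refine Set.Finite.subset (hSf.biUnion fun C _ => Set.Subsingleton.finite
    (s := {z : X | ∃ hz : z ∈ V, (⟨z, hz⟩ : (V : Set X)) ∈ C ∧ Cyc.divFun δ ξ f z ≠ 0 ∧ C ∈ S}) ?_) ?_
  · rintro z ⟨hzV, hzC, hz, hCS⟩ z' ⟨hzV', hzC', hz', -⟩
    have hCi : IsIrreducible (Subtype.val '' C) := (hSi C hCS).image _ continuous_subtype_val.continuousOn
    obtain ⟨η, hη⟩ := QuasiSober.sober hCi.closure isClosed_closure
    have hsz : η ⤳ z := hη.specializes (subset_closure ⟨_, hzC, rfl⟩)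
    have hsz' : η ⤳ z' := hη.specializes (subset_closure ⟨_, hzC', rfl⟩)
    have hηV : η ∈ V := hsz.mem_open V.2 hzV
    have hηD : η ∈ closure {ξ} \ (W : Set X) := by
      have hηC : η ∈ closure (Subtype.val '' C) := hη.mem
      have : (⟨η, hηV⟩ : (V : Set X)) ∈ C := by
        rw [← (hSc C hCS).closure_eq, closure_subtype]
        exact hηC
      exact (hSU.ge ⟨C, hCS, this⟩ : (⟨η, hηV⟩ : (V : Set X)) ∈ D)
    have hmax : ∀ w, Cyc.divFun δ ξ f w ≠ 0 → η ⤳ w → η = w := fun w hw hsw => by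
      obtain ⟨-, hw2, -⟩ := hspec w hw
      by_contra hne
      have h1 := (hδ η w hsw hne).1
      have h2 := (hδ ξ η (specializes_iff_mem_closure.2 hηD.1) fun e => hηD.2 (e ▸ hξW)).1
      omega
    rw [← hmax z hz hsz, ← hmax z' hz' hsz']
  · rintro z ⟨hzV, hz⟩
    obtain ⟨h1, h2, h3⟩ := hspec z hz
    obtain ⟨C, hCS, hzC⟩ := hSU.le (show (⟨z, hzV⟩ : (V : Set X)) ∈ D from ⟨specializes_iff_mem_closure.1 h1, h3⟩)
    exact Set.mem_biUnion hCS ⟨hzV, hzC, hz, hCS⟩

theorem ker_eq_map_of_comm {A B K L : Type u} [CommRing A] [CommRing B] [CommRing K] [CommRing L] (p : A →+* K)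
    (q : B →+* L) (e : A ≃+* B) (φ : K ≃+* L) (hc : ∀ a, q (e a) = φ (p a)) :
    RingHom.ker q = (RingHom.ker p).map (e : A →+* B) := by
  ext b
  obtain ⟨a, rfl⟩ := e.surjective b
  rw [RingHom.mem_ker, hc, map_eq_zero_iff φ φ.injective]
  exact ⟨fun ha => Ideal.mem_map_of_mem (e : A →+* B) (RingHom.mem_ker.2 ha), fun ha => by
    obtain ⟨a', ha', he⟩ := (Ideal.mem_map_iff_of_surjective (e : A →+* B) e.surjective).1 ha
    exact RingHom.mem_ker.1 (e.injective he ▸ ha')⟩

/-- Orders along specializations are invariant under open immersions. -/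
theorem ordAt_of_isOpenImmersion {Y : Scheme.{u}} (j : Y ⟶ X) [IsOpenImmersion j] {y ξ : Y} (h : ξ ⤳ y)
    (h' : j ξ ⤳ j y) (g : X.residueField (j ξ)) :
    Cyc.ordAt y ξ h (j.residueFieldMap ξ g) = Cyc.ordAt (j y) (j ξ) h' g := by
  let e₀ := (asIso (j.stalkMap y)).commRingCatIsoToRingEquiv
  let φ := (asIso (j.residueFieldMap ξ)).commRingCatIsoToRingEquiv
  have hc : ∀ a, Cyc.specMap y ξ h (e₀ a) = φ (Cyc.specMap (j y) (j ξ) h' a) := fun a => by
    show Y.residue ξ (Y.presheaf.stalkSpecializes h (j.stalkMap y a)) =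
      j.residueFieldMap ξ (X.residue (j ξ) (X.presheaf.stalkSpecializes h' a))
    rw [← CommRingCat.comp_apply (X.residue (j ξ)) (j.residueFieldMap ξ), Scheme.residue_residueFieldMap,
      CommRingCat.comp_apply, Scheme.Hom.stalkSpecializes_stalkMap_apply]
  have hk := ker_eq_map_of_comm (Cyc.specMap (j y) (j ξ) h') (Cyc.specMap y ξ h) e₀ φ hc
  refine ordFrac_congr (Ideal.quotientEquiv _ _ e₀ hk) φ (fun a => ?_) g
  obtain ⟨a, rfl⟩ := Ideal.Quotient.mk_surjective a
  exact (hc a).symm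

theorem divFun_of_isOpenImmersion {Y : Scheme.{u}} (j : Y ⟶ X) [IsOpenImmersion j] (δ : X → ℤ) (y ξ : Y)
    (g : X.residueField (j ξ)) :
    Cyc.divFun (fun z => δ (j z)) ξ (j.residueFieldMap ξ g) y = Cyc.divFun δ (j ξ) g (j y) := by
  have hs : ξ ⤳ y ↔ j ξ ⤳ j y := j.isOpenEmbedding.toIsEmbedding.isInducing.specializes_iff.symm
  unfold Cyc.divFun
  by_cases hh : ξ ⤳ y ∧ δ (j y) + 1 = δ (j ξ)
  · rw [dif_pos hh, dif_pos ⟨hs.1 hh.1, hh.2⟩]
    exact ordAt_of_isOpenImmersion j hh.1 _ g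
  · rw [dif_neg hh, dif_neg fun h'' => hh ⟨hs.2 h''.1, h''.2⟩]

end Groth.Agent.CycLib
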